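import Groth.Prelude.Def_W4c5qllcourbesmultMultCrv
import Mathlib.RingTheory.DiscreteValuationRing.Basic
import Mathlib.LinearAlgebra.FreeModule.PID
import Mathlib.RingTheory.Polynomial.Basic
import Mathlib.RingTheory.Finiteness.Basic
import Mathlib.Algebra.Module.Torsion.Free
import Mathlib.RingTheory.AdjoinRoot
import Mathlib.Tactic.LinearCombination
import Mathlib.Tactic.Abel

/-! The ring `R[X]/(X^n)` as a Frobenius algebra over `R`, and its modules. -/

namespace Groth.L21.MultCrv

open Polynomial
open _root_.MultCrv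

universe u

section Ring

variable (R : Type u) [CommRing R] (n : ℕ)

theorem z_pow_self : z R n ^ n = 0 := by
  rw [← map_pow, Ideal.Quotient.eq_zero_iff_mem]
  exact Ideal.subset_span rfl

theorem z_pow_eq_zero {i : ℕ} (h : n ≤ i) : z R n ^ i = 0 := by
  rw [← Nat.sub_add_cancel h, pow_add, z_pow_self, mul_zero]

instance finite_Rn : Module.Finite R (Rn R n) := (monic_X_pow n).finite_quotient

/-- The coefficient of `z^i`, for `i < n`. -/
noncomputable def coeffR (i : ℕ) (hi : i < n) : Rn R n →ₗ[R] R :=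
  (Submodule.liftQ ((Ideal.span {(X : R[X]) ^ n}).restrictScalars R) (Polynomial.lcoeff R i) (by
      intro P hP
      obtain ⟨Q, rfl⟩ := Ideal.mem_span_singleton.1 hP
      rw [LinearMap.mem_ker, Polynomial.lcoeff_apply, mul_comm, Polynomial.coeff_mul_X_pow']
      simp [not_le.2 hi])) ∘ₗ
    (Submodule.Quotient.restrictScalarsEquiv R (Ideal.span {(X : R[X]) ^ n})).symm.toLinearMap

theorem coeffR_mk (i : ℕ) (hi : i < n) (P : R[X]) :
    coeffR R n i hi (Ideal.Quotient.mk _ P) = P.coeff i := rfl

/-- The Frobenius form: the coefficient of `z^(n-1)`. -/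
noncomputable def eps (hn : 1 ≤ n) : Rn R n →ₗ[R] R := coeffR R n (n - 1) (by omega)

theorem z_pow_eq_mk (j : ℕ) : z R n ^ j = Ideal.Quotient.mk _ ((X : R[X]) ^ j) := (map_pow _ _ _).symm

theorem algebraMap_eq_mk (r : R) :
    algebraMap R (Rn R n) r = Ideal.Quotient.mk _ (Polynomial.C r) := rfl

/-- Every element is a combination of the powers of `z`. -/
theorem expansion (hn : 1 ≤ n) (a : Rn R n) :
    ∑ i ∈ Finset.range n, algebraMap R (Rn R n) (eps R n hn (z R n ^ (n - 1 - i) * a)) * z R n ^ i = a := by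
  obtain ⟨P, rfl⟩ := Ideal.Quotient.mk_surjective a
  induction P using Polynomial.induction_on' with
  | add p q hp hq =>
    simp only [map_add, mul_add, add_mul, Finset.sum_add_distrib, hp, hq]
  | monomial j r =>
    have h : ∀ i ∈ Finset.range n,
        algebraMap R (Rn R n) (eps R n hn (z R n ^ (n - 1 - i) * Ideal.Quotient.mk _ (monomial j r))) * z R n ^ i
          = if j = i then Ideal.Quotient.mk _ (monomial j r) else 0 := by
      intro i hi
      rw [Finset.mem_range] at hi
      rw [z_pow_eq_mk, ← map_mul, eps, coeffR_mk, X_pow_mul_monomial, coeff_monomial]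
      by_cases h : j = i
      · subst h
        rw [if_pos (by omega), if_pos rfl, algebraMap_eq_mk, z_pow_eq_mk, ← map_mul,
          C_mul_X_pow_eq_monomial]
      · rw [if_neg (by omega), if_neg h, map_zero, zero_mul]
    rw [Finset.sum_congr rfl h, Finset.sum_ite_eq]
    by_cases hj : j < n
    · rw [if_pos (Finset.mem_range.2 hj)]
    · rw [if_neg (by simpa using hj), eq_comm, ← C_mul_X_pow_eq_monomial, map_mul, ← z_pow_eq_mk,
        z_pow_eq_zero R n (not_lt.1 hj), mul_zero]

theorem eq_zero_of_eps (hn : 1 ≤ n) (a : Rn R n) (h : ∀ j, eps R n hn (z R n ^ j * a) = 0) : a = 0 := by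
  rw [← expansion R n hn a]
  exact Finset.sum_eq_zero fun i _ => by rw [h, map_zero, zero_mul]

/-- Every element is `r + z b`. -/
theorem exists_eq_add_z_mul (a : Rn R n) : ∃ r : R, ∃ b : Rn R n, a = algebraMap R (Rn R n) r + z R n * b := by
  obtain ⟨P, rfl⟩ := Ideal.Quotient.mk_surjective a
  refine ⟨P.coeff 0, Ideal.Quotient.mk _ P.divX, ?_⟩
  conv_lhs => rw [← X_mul_divX_add P]
  rw [map_add, map_mul, add_comm]
  rfl

theorem isTorsionFree_Rn [IsDomain R] (hn : 1 ≤ n) : Module.IsTorsionFree R (Rn R n) := by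
  refine Module.isTorsionFree_iff_smul_eq_zero.2 fun r a h => ?_
  by_cases hr : r = 0
  · exact Or.inl hr
  refine Or.inr (eq_zero_of_eps R n hn a fun j => ?_)
  have h2 : eps R n hn (z R n ^ j * (r • a)) = 0 := by rw [h, mul_zero, map_zero]
  rw [mul_smul_comm, map_smul, smul_eq_mul] at h2
  exact (mul_eq_zero.1 h2).resolve_left hr

end Ring

section Module

variable {R : Type u} [CommRing R] {n : ℕ} {M : Type u} [AddCommGroup M] [Module (Rn R n) M]

theorem mem_filt {i : ℕ} {x : M} : x ∈ filt R n M i ↔ ∃ m : M, z R n ^ i • m = x :=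
  Iff.rfl

theorem mem_filt2 {i : ℕ} {x : M} : x ∈ filt2 R n M i ↔ z R n ^ i • x = 0 :=
  Submodule.mem_torsionBy_iff _ _

variable [Module R M] [IsScalarTower R (Rn R n) M]


/-- A linear map commuting with `z` is linear over `R[X]/(X^n)`. -/
noncomputable def ofCommZ {N : Type u} [AddCommGroup N] [Module (Rn R n) N] [Module R N]
    [IsScalarTower R (Rn R n) N] (f : M →ₗ[R] N) (h : ∀ m, f (z R n • m) = z R n • f m) :
    M →ₗ[Rn R n] N :=
  { toFun := f
    map_add' := f.map_add
    map_smul' := fun a m => by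
      obtain ⟨P, rfl⟩ := Ideal.Quotient.mk_surjective a
      simp only [RingHom.id_apply]
      induction P using Polynomial.induction_on generalizing m with
      | C r =>
        rw [show (Ideal.Quotient.mk (Ideal.span {(X : R[X]) ^ n})) (Polynomial.C r) = algebraMap R (Rn R n) r from rfl,
          IsScalarTower.algebraMap_smul, IsScalarTower.algebraMap_smul, map_smul]
      | add p q hp hq => rw [map_add, add_smul, map_add, hp, hq, add_smul]
      | monomial j r ih =>
        rw [pow_succ, ← mul_assoc, map_mul, mul_smul, mul_smul, ih, h] }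

/-- The map into `R[X]/(X^n)` attached to an `R`-linear functional. -/
noncomputable def dualLift (hn : 1 ≤ n) (φ : M →ₗ[R] R) : M →ₗ[Rn R n] Rn R n :=
  ofCommZ
    { toFun := fun m => ∑ i ∈ Finset.range n, algebraMap R (Rn R n) (φ (z R n ^ (n - 1 - i) • m)) * z R n ^ i
      map_add' := fun a b => by
        simp only [smul_add, map_add, add_mul, Finset.sum_add_distrib]
      map_smul' := fun r a => by
        simp only [RingHom.id_apply, Finset.smul_sum, Algebra.smul_def r, ← mul_assoc]
        refine Finset.sum_congr rfl fun i _ => ?_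
        rw [smul_comm, map_smul, smul_eq_mul, map_mul, mul_assoc]
        exact (Algebra.smul_def _ _).symm }
    (fun m => by
      simp only [LinearMap.coe_mk, AddHom.coe_mk, smul_eq_mul, Finset.mul_sum]
      obtain ⟨k, rfl⟩ : ∃ k, n = k + 1 := ⟨n - 1, by omega⟩
      rw [Finset.sum_range_succ', Finset.sum_range_succ _ k]
      have h0 : z R (k + 1) ^ (k + 1 - 1 - 0) • z R (k + 1) • m = 0 := by
        rw [smul_smul, ← pow_succ, show k + 1 - 1 - 0 + 1 = k + 1 by omega, z_pow_self]
        exact zero_smul (Rn R (k + 1)) m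
      have h1 : z R (k + 1) * (algebraMap R (Rn R (k + 1)) (φ (z R (k + 1) ^ (k + 1 - 1 - k) • m)) * z R (k + 1) ^ k) = 0 := by
        rw [mul_left_comm, ← pow_succ', z_pow_self, mul_zero]
      rw [h0, h1, map_zero, map_zero, zero_mul]
      congr 1
      refine Finset.sum_congr rfl fun i hi => ?_
      rw [Finset.mem_range] at hi
      rw [smul_smul, ← pow_succ, show k + 1 - 1 - (i + 1) + 1 = k + 1 - 1 - i by omega, pow_succ' (z R (k + 1)) i]
      ring)

theorem dualLift_apply (hn : 1 ≤ n) (φ : M →ₗ[R] R) (m : M) :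
    dualLift hn φ m = ∑ i ∈ Finset.range n, algebraMap R (Rn R n) (φ (z R n ^ (n - 1 - i) • m)) * z R n ^ i :=
  rfl

theorem eps_dualLift (hn : 1 ≤ n) (φ : M →ₗ[R] R) (m : M) : eps R n hn (dualLift hn φ m) = φ m := by
  rw [dualLift_apply, map_sum, Finset.sum_eq_single (n - 1)]
  · rw [Nat.sub_self, pow_zero, one_smul, ← Algebra.smul_def, map_smul, z_pow_eq_mk, eps, coeffR_mk,
      coeff_X_pow, if_pos rfl, smul_eq_mul, mul_one]
  · intro i _ hi
    rw [← Algebra.smul_def, map_smul, z_pow_eq_mk R n i, eps, coeffR_mk, coeff_X_pow,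
      if_neg (fun h => hi h.symm), smul_zero]
  · intro h; exact absurd (Finset.mem_range.2 (by omega)) h

/-- A map into `R[X]/(X^n)` is determined by its composite with `eps`. -/
theorem hom_ext_eps (hn : 1 ≤ n) {f g : M →ₗ[Rn R n] Rn R n}
    (h : ∀ m, eps R n hn (f m) = eps R n hn (g m)) : f = g := by
  ext m
  rw [← expansion R n hn (f m), ← expansion R n hn (g m)]
  refine Finset.sum_congr rfl fun i _ => ?_
  rw [← smul_eq_mul (z R n ^ (n - 1 - i)) (f m), ← map_smul f, h, map_smul g, smul_eq_mul]

/-- `eps`-composite. -/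
noncomputable def epsComp (hn : 1 ≤ n) (f : M →ₗ[Rn R n] Rn R n) : M →ₗ[R] R :=
  eps R n hn ∘ₗ f.restrictScalars R

theorem finite_R [Module.Finite (Rn R n) M] : Module.Finite R M := Module.Finite.trans (Rn R n) M

theorem free_R [IsDomain R] [IsPrincipalIdealRing R] [Module.Finite (Rn R n) M]
    [Module.IsTorsionFree R M] : Module.Free R M := by
  haveI := finite_R (R := R) (n := n) (M := M)
  infer_instance

/-- Restriction of `R[X]/(X^n)`-duals is surjective along maps with torsion-free cokernel. -/
theorem dual_restrict_surjective [IsDomain R] [IsPrincipalIdealRing R] (hn : 1 ≤ n)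
    {M' : Type u} [AddCommGroup M'] [Module (Rn R n) M'] [Module R M'] [IsScalarTower R (Rn R n) M']
    {M'' : Type u} [AddCommGroup M''] [Module (Rn R n) M''] [Module R M''] [IsScalarTower R (Rn R n) M'']
    [Module.Finite (Rn R n) M''] [Module.IsTorsionFree R M'']
    (f : M' →ₗ[Rn R n] M) (g : M →ₗ[Rn R n] M'') (hf : Function.Injective f)
    (hg : Function.Surjective g) (hfg : LinearMap.range f = LinearMap.ker g)
    (ψ : M' →ₗ[Rn R n] Rn R n) : ∃ Φ : M →ₗ[Rn R n] Rn R n, Φ.comp f = ψ := by
  haveI := free_R (R := R) (n := n) (M := M'')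
  obtain ⟨s, hs⟩ := Module.projective_lifting_property (g.restrictScalars R) LinearMap.id hg
  have hmem : ∀ m, m - s (g m) ∈ LinearMap.range f := by
    intro m
    rw [hfg, LinearMap.mem_ker, map_sub]
    have := LinearMap.congr_fun hs (g m)
    simp only [LinearMap.comp_apply, LinearMap.restrictScalars_apply, LinearMap.id_apply] at this
    rw [this, sub_self]
  let e := LinearEquiv.ofInjective (f.restrictScalars R) hf
  let q : M →ₗ[R] M' := e.symm.toLinearMap ∘ₗ
    (LinearMap.id - s ∘ₗ g.restrictScalars R).codRestrict (LinearMap.range (f.restrictScalars R))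
      (fun m => hmem m)
  have hq : ∀ x, q (f x) = x := by
    intro x
    apply e.injective
    apply Subtype.ext
    have hgf : g (f x) = 0 := by
      have : f x ∈ LinearMap.range f := ⟨x, rfl⟩
      rwa [hfg, LinearMap.mem_ker] at this
    simp [q, e, hgf]
  refine ⟨dualLift hn (epsComp hn ψ ∘ₗ q), hom_ext_eps hn fun x => ?_⟩
  rw [LinearMap.comp_apply, eps_dualLift, LinearMap.comp_apply, hq]
  rfl

end Module

end Groth.L21.MultCrv
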