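import Groth.Agent.L21.MultCrv.Basic
import Mathlib.Algebra.Category.ModuleCat.Ext.DimensionShifting
import Mathlib.Algebra.Category.ModuleCat.Ext.HasExt
import Mathlib.Algebra.Category.ModuleCat.Projective
import Mathlib.Algebra.Homology.DerivedCategory.Ext.Linear
import Mathlib.Algebra.Homology.ShortComplex.ModuleCat

/-! `Ext` over `R[X]/(X^n)`, for a DVR `R`. -/

namespace Groth.L21.MultCrv

open Polynomial CategoryTheory Abelian
open _root_.MultCrv

universe u

variable {R : Type u} [CommRing R] {n : ℕ}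

/-- A free cover with finite, `R`-torsion-free kernel. -/
theorem exists_cover [IsDomain R] [IsPrincipalIdealRing R] (hn : 1 ≤ n)
    (M : Type u) [AddCommGroup M] [Module (Rn R n) M] [Module.Finite (Rn R n) M] :
    ∃ (r : ℕ) (f : (Fin r → Rn R n) →ₗ[Rn R n] M), Function.Surjective f ∧
      Module.Finite (Rn R n) ↥(LinearMap.ker f) ∧ Module.IsTorsionFree R ↥(LinearMap.ker f) := by
  obtain ⟨r, f, hf⟩ := Module.Finite.exists_fin' (Rn R n) M
  haveI := isTorsionFree_Rn R n hn
  refine ⟨r, f, hf, inferInstance, ?_⟩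
  refine Module.isTorsionFree_iff_smul_eq_zero.2 fun a x h => ?_
  by_cases ha : a = 0
  · exact Or.inl ha
  refine Or.inr (Subtype.ext (funext fun i => ?_))
  have := congrArg (fun y : ↥(LinearMap.ker f) => (y : Fin r → Rn R n) i) h
  exact (Module.isTorsionFree_iff_smul_eq_zero.1 inferInstance a _ this).resolve_left ha

theorem ext_subsingleton_of_torsionFree [IsDomain R] [IsPrincipalIdealRing R] (hn : 1 ≤ n) (i : ℕ) :
    ∀ (M : Type u) [AddCommGroup M] [Module (Rn R n) M] [Module R M] [IsScalarTower R (Rn R n) M]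
      [Module.Finite (Rn R n) M] [Module.IsTorsionFree R M],
      Subsingleton (Abelian.Ext (ModuleCat.of (Rn R n) M) (ModuleCat.of (Rn R n) (Rn R n)) (i + 1)) := by
  induction i with
  | zero =>
    intro M _ _ _ _ _ _
    obtain ⟨r, f, hf, hKfin, hKtf⟩ := exists_cover (R := R) hn M
    have hS := LinearMap.shortExact_shortComplexKer hf
    haveI : Projective f.shortComplexKer.X₂ :=
      ModuleCat.projective_of_free (Pi.basisFun (Rn R n) (Fin r))
    refine subsingleton_of_forall_eq 0 fun x => ?_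
    obtain ⟨y, rfl⟩ := Ext.contravariant_sequence_exact₃ hS _ x (Ext.eq_zero_of_projective _) (add_comm 1 0)
    obtain ⟨g, rfl⟩ := Ext.addEquiv₀.symm.surjective y
    obtain ⟨Φ, hΦ⟩ := dual_restrict_surjective (R := R) hn (LinearMap.ker f).subtype f
      (Submodule.injective_subtype _) hf (LinearMap.ker f).range_subtype g.hom
    have hg : g = f.shortComplexKer.f ≫ ModuleCat.ofHom Φ := by
      ext1
      exact hΦ.symm
    rw [Ext.addEquiv₀_symm_apply, hg, ← Ext.mk₀_comp_mk₀, hS.extClass_comp_assoc]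
  | succ i ih =>
    intro M _ _ _ _ _ _
    obtain ⟨r, f, hf, hKfin, hKtf⟩ := exists_cover (R := R) hn M
    have hS := LinearMap.shortExact_shortComplexKer hf
    haveI : Projective f.shortComplexKer.X₂ :=
      ModuleCat.projective_of_free (Pi.basisFun (Rn R n) (Fin r))
    refine subsingleton_of_forall_eq 0 fun x => ?_
    obtain ⟨y, rfl⟩ := Ext.contravariant_sequence_exact₃ hS _ x (Ext.eq_zero_of_projective _) (add_comm 1 (i + 1))
    haveI := ih ↥(LinearMap.ker f)
    rw [show y = 0 from Subsingleton.elim _ _, Ext.comp_zero]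

/-- `z^(n-1)` factors through a finite free module on a torsion-free module. -/
theorem exists_factor [IsDomain R] [IsPrincipalIdealRing R] (hn : 1 ≤ n)
    (M : Type u) [AddCommGroup M] [Module (Rn R n) M] [Module R M] [IsScalarTower R (Rn R n) M]
    [Module.Finite (Rn R n) M] [Module.IsTorsionFree R M] :
    ∃ (r : ℕ) (g : M →ₗ[Rn R n] (Fin r → Rn R n)) (h : (Fin r → Rn R n) →ₗ[Rn R n] M),
      ∀ m, h (g m) = z R n ^ (n - 1) • m := by
  haveI := finite_R (R := R) (n := n) (M := M)
  let L : M →ₗ[R] M := ((z R n ^ (n - 1)) • (LinearMap.id : M →ₗ[Rn R n] M)).restrictScalars R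
  let P : Submodule R M := LinearMap.range L
  haveI : Module.Finite R P := Module.Finite.range L
  obtain ⟨r, b⟩ := Module.basisOfFiniteTypeTorsionFree' (R := R) (M := P)
  choose u hu using fun i => (b i).2
  have hzL : ∀ m, L.rangeRestrict (z R n • m) = 0 := fun m => by
    apply Subtype.ext
    change z R n ^ (n - 1) • z R n • m = 0
    rw [smul_smul, ← pow_succ, show n - 1 + 1 = n by omega, z_pow_self]
    exact zero_smul (Rn R n) m
  let g : M →ₗ[Rn R n] (Fin r → Rn R n) := ofCommZ
    (LinearMap.pi fun i => ((LinearMap.toSpanSingleton R (Rn R n) (z R n ^ (n - 1))) ∘ₗ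
      (b.coord i) ∘ₗ L.rangeRestrict))
    (fun m => by
      funext i
      simp only [LinearMap.pi_apply, LinearMap.comp_apply, hzL, map_zero, Pi.smul_apply,
        LinearMap.toSpanSingleton_apply, smul_eq_mul]
      rw [mul_smul_comm, ← pow_succ', show n - 1 + 1 = n by omega, z_pow_self, smul_zero])
  refine ⟨r, g, (Pi.basisFun (Rn R n) (Fin r)).constr ℕ u, fun m => ?_⟩
  rw [Module.Basis.constr_apply_fintype]
  have hsum : z R n ^ (n - 1) • m = ∑ i, b.coord i (L.rangeRestrict m) • (b i : M) := by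
    have h := congrArg Subtype.val (b.sum_repr (L.rangeRestrict m))
    simp only [Submodule.coe_sum, Submodule.coe_smul] at h
    exact h.symm
  rw [hsum]
  refine Finset.sum_congr rfl fun i _ => ?_
  have hgi : g m i = b.coord i (L.rangeRestrict m) • z R n ^ (n - 1) := rfl
  rw [Module.Basis.equivFun_apply, Pi.basisFun_repr, hgi, smul_assoc]
  congr 1
  exact hu i

theorem zpow_smul_ext_eq_zero [IsDomain R] [IsPrincipalIdealRing R] (hn : 1 ≤ n)
    (M N : Type u) [AddCommGroup M] [Module (Rn R n) M] [Module R M] [IsScalarTower R (Rn R n) M]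
    [Module.Finite (Rn R n) M] [Module.IsTorsionFree R M] [AddCommGroup N] [Module (Rn R n) N] (i : ℕ)
    (x : Abelian.Ext (ModuleCat.of (Rn R n) M) (ModuleCat.of (Rn R n) N) (i + 1)) :
    z R n ^ (n - 1) • x = 0 := by
  obtain ⟨r, g, h, hgh⟩ := exists_factor (R := R) hn M
  haveI : Projective (ModuleCat.of (Rn R n) (Fin r → Rn R n)) :=
    ModuleCat.projective_of_free (Pi.basisFun (Rn R n) (Fin r))
  have hfac : (z R n ^ (n - 1)) • 𝟙 (ModuleCat.of (Rn R n) M) = ModuleCat.ofHom g ≫ ModuleCat.ofHom h := by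
    ext m
    exact (hgh m).symm
  calc z R n ^ (n - 1) • x
      = z R n ^ (n - 1) • (Ext.mk₀ (𝟙 _)).comp x (zero_add _) := by rw [Ext.mk₀_id_comp]
    _ = (Ext.mk₀ ((z R n ^ (n - 1)) • 𝟙 _)).comp x (zero_add _) := by
        rw [← Ext.smul_comp]; congr 1; exact (Ext.mk₀_smul _ _).symm
    _ = 0 := by
        rw [hfac, ← Ext.mk₀_comp_mk₀_assoc,
          Ext.eq_zero_of_projective ((Ext.mk₀ (ModuleCat.ofHom h)).comp x (zero_add _)), Ext.comp_zero]

/-- Converse: vanishing of `Ext¹` forces torsion-freeness. -/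
theorem torsionFree_of_ext_one [IsDomain R] [IsDiscreteValuationRing R] (hn : 1 ≤ n)
    (M : Type u) [AddCommGroup M] [Module (Rn R n) M] [Module R M] [IsScalarTower R (Rn R n) M]
    [Module.Finite (Rn R n) M]
    (hext : Subsingleton (Abelian.Ext (ModuleCat.of (Rn R n) M) (ModuleCat.of (Rn R n) (Rn R n)) 1)) :
    Module.IsTorsionFree R M := by
  obtain ⟨ϖ, hϖ⟩ := IsDiscreteValuationRing.exists_irreducible R
  suffices hp : ∀ m : M, ϖ • m = 0 → m = 0 by
    refine Module.isTorsionFree_iff_smul_eq_zero.2 fun a m h => ?_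
    by_cases ha : a = 0
    · exact Or.inl ha
    obtain ⟨k, v, rfl⟩ := IsDiscreteValuationRing.eq_unit_mul_pow_irreducible ha hϖ
    refine Or.inr ?_
    rw [mul_smul] at h
    have h' : ϖ ^ k • m = 0 := (IsUnit.smul_eq_zero v.isUnit).1 h
    clear h ha
    induction k with
    | zero => simpa using h'
    | succ k ih => exact ih (hp _ (by rw [smul_smul, ← pow_succ']; exact h'))
  intro m hm
  obtain ⟨r, f, hf, hKfin, hKtf⟩ := exists_cover (R := R) hn M
  have hS := LinearMap.shortExact_shortComplexKer hf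
  obtain ⟨x, rfl⟩ := hf m
  let K := LinearMap.ker f
  have hxK : ϖ • x ∈ K := by
    rw [LinearMap.mem_ker, LinearMap.map_smul_of_tower]
    exact hm
  haveI := finite_R (R := R) (n := n) (M := ↥K)
  obtain ⟨k, b⟩ := Module.basisOfFiniteTypeTorsionFree' (R := R) (M := ↥K)
  -- every functional on the kernel extends, so all coordinates of `ϖ • x` are divisible by `ϖ`
  have hdiv : ∀ j, ϖ ∣ b.coord j ⟨ϖ • x, hxK⟩ := by
    intro j
    obtain ⟨y, hy⟩ := Ext.contravariant_sequence_exact₁ hS (ModuleCat.of (Rn R n) (Rn R n))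
      (Ext.mk₀ (ModuleCat.ofHom (dualLift hn (b.coord j)))) (add_zero 1) (Subsingleton.elim _ _)
    obtain ⟨g, rfl⟩ := Ext.addEquiv₀.symm.surjective y
    rw [Ext.addEquiv₀_symm_apply, Ext.mk₀_comp_mk₀] at hy
    have hy' := (Ext.mk₀_bijective _ _).1 hy
    have h2 : g.hom (ϖ • x) = dualLift hn (b.coord j) (⟨ϖ • x, hxK⟩ : ↥K) :=
      LinearMap.congr_fun (congrArg ModuleCat.Hom.hom hy') (⟨ϖ • x, hxK⟩ : ↥K)
    have h3 := congrArg (eps R n hn) h2
    rw [eps_dualLift, LinearMap.map_smul_of_tower, map_smul] at h3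
    exact ⟨_, h3.symm⟩
  choose c hc using hdiv
  let y : ↥K := ∑ j, c j • b j
  have hy : ϖ • y = ⟨ϖ • x, hxK⟩ := by
    conv_rhs => rw [← b.sum_repr ⟨ϖ • x, hxK⟩]
    simp only [y, Finset.smul_sum, smul_smul]
    exact Finset.sum_congr rfl fun j _ => by rw [← hc]; rfl
  haveI := isTorsionFree_Rn R n hn
  have hxy : x = (y : Fin r → Rn R n) := by
    funext i
    have := congrFun (congrArg Subtype.val hy) i
    exact (smul_right_inj hϖ.ne_zero).1 this.symm
  rw [hxy]
  exact y.2

end Groth.L21.MultCrv
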