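import Groth.Agent.L21.MultCrv.Basic

/-! The kernel of a surjection from a free `R[X]/(X^n)`-module onto a quasi-free module. -/

set_option autoImplicit false

namespace Groth.L21.MultCrv

open Polynomial
open _root_.MultCrv

universe u

variable (R : Type u) [CommRing R] [IsDomain R] (n : ℕ)

/-- `z^i x = 0` forces `x ∈ (z^j)` if `i + j = n`. -/
theorem mem_span_of_z_pow_mul_eq_zero {i j : ℕ} (h : i + j = n) (x : Rn R n) (hx : z R n ^ i * x = 0) :
    x ∈ Ideal.span {z R n ^ j} := by
  obtain ⟨P, rfl⟩ := Ideal.Quotient.mk_surjective x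
  rw [z_pow_eq_mk, ← map_mul, Ideal.Quotient.eq_zero_iff_mem, Ideal.mem_span_singleton] at hx
  obtain ⟨Q, hQ⟩ := hx
  have hP : P = X ^ j * Q := mul_left_cancel₀ (pow_ne_zero i X_ne_zero) (by rw [hQ, ← h, pow_add]; ring)
  rw [hP, map_mul, ← z_pow_eq_mk]
  exact Ideal.mul_mem_right _ _ (Ideal.subset_span rfl)

variable (m : Fin n → ℕ)

/-- The free cover of the model. -/
abbrev Free : Type u := (i : Fin n) → (Fin (m i) → Rn R n)

/-- The projection of the free module onto the model. -/
noncomputable def cover : Free R n m →ₗ[Rn R n] QFModel R n m :=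
  (QFModel.equivPi R n m).symm.toLinearMap ∘ₗ
    LinearMap.pi fun i => LinearMap.pi fun a =>
      (Submodule.mkQ (Ideal.span {z R n ^ (i.1 + 1)})) ∘ₗ LinearMap.proj a ∘ₗ LinearMap.proj i

theorem cover_surjective : Function.Surjective (cover R n m) := by
  intro y
  obtain ⟨y', rfl⟩ := (QFModel.equivPi R n m).symm.surjective y
  choose f hf using fun (i : Fin n) (a : Fin (m i)) => Submodule.Quotient.mk_surjective _ (y' i a)
  refine ⟨f, ?_⟩
  simp only [cover, LinearMap.comp_apply, LinearEquiv.coe_coe]
  congr 1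
  funext i a
  simp only [LinearMap.pi_apply, LinearMap.comp_apply, LinearMap.proj_apply, Submodule.mkQ_apply]
  exact hf i a

/-- `z^n` kills every module. -/
theorem z_pow_self_smul {M : Type*} [AddCommGroup M] [Module (Rn R n) M] (x : M) : z R n ^ n • x = 0 :=
  (congrArg (· • x) (z_pow_self R n)).trans (zero_smul (Rn R n) x)

theorem mem_ker_cover {x : Free R n m} :
    cover R n m x = 0 ↔ ∀ i a, x i a ∈ Ideal.span {z R n ^ (i.1 + 1)} :=
  ⟨fun h i a => (Submodule.Quotient.mk_eq_zero _).1 (congrFun (congrFun h i) a),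
    fun h => funext fun i => funext fun a => (Submodule.Quotient.mk_eq_zero _).2 (h i a)⟩

/-- Multiplication by `z^(i+1)` from `A/(z^(n-1-i))` into `A`. -/
noncomputable def mulPow (i j : ℕ) (h : i + 1 + (j + 1) = n) : Oi R n (j + 1) →ₗ[Rn R n] Rn R n :=
  Submodule.liftQ _ (LinearMap.mulLeft (Rn R n) (z R n ^ (i + 1))) (by
    intro x hx
    obtain ⟨y, rfl⟩ := Ideal.mem_span_singleton.1 hx
    rw [LinearMap.mem_ker, LinearMap.mulLeft_apply, ← mul_assoc, ← pow_add, h, z_pow_self, zero_mul])

theorem mulPow_mk (i j : ℕ) (h : i + 1 + (j + 1) = n) (x : Rn R n) :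
    mulPow R n i j h (Submodule.Quotient.mk x) = z R n ^ (i + 1) * x := rfl

theorem mulPow_injective (i j : ℕ) (h : i + 1 + (j + 1) = n) : Function.Injective (mulPow R n i j h) := by
  rw [injective_iff_map_eq_zero]
  intro q hq
  obtain ⟨x, rfl⟩ := Submodule.Quotient.mk_surjective _ q
  rw [Submodule.Quotient.mk_eq_zero]
  exact mem_span_of_z_pow_mul_eq_zero R n h x hq

/-- The index opposite to `i`. -/
abbrev opp (i : Fin n) : Fin n := ⟨n - 2 - i.1, by omega⟩

theorem revType_opp (i : Fin n) (h : i.1 + 1 < n) : revType n m (opp n i) = m i := by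
  rw [revType, dif_pos (by simp only [opp]; omega)]
  congr 1
  ext
  simp only [opp]
  omega

/-- The reversed model inside the free module. -/
noncomputable def fromRev : QFModel R n (revType n m) →ₗ[Rn R n] Free R n m :=
  (LinearMap.pi fun i => LinearMap.pi fun a =>
    if h : i.1 + 1 < n then
      mulPow R n i.1 (opp n i).1 (by simp only [opp]; omega) ∘ₗ
        LinearMap.proj (Fin.cast (revType_opp n m i h).symm a) ∘ₗ LinearMap.proj (opp n i)
    else 0) ∘ₗ (QFModel.equivPi R n (revType n m)).toLinearMap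

theorem fromRev_apply (y : QFModel R n (revType n m)) (i : Fin n) (h : i.1 + 1 < n) (a : Fin (m i)) :
    fromRev R n m y i a = mulPow R n i.1 (opp n i).1 (by simp only [opp]; omega)
      (QFModel.equivPi R n (revType n m) y (opp n i) (Fin.cast (revType_opp n m i h).symm a)) := by
  simp only [fromRev, LinearMap.comp_apply, LinearMap.pi_apply, dif_pos h]
  rfl

theorem fromRev_apply_top (y : QFModel R n (revType n m)) (i : Fin n) (h : ¬ i.1 + 1 < n) (a : Fin (m i)) :
    fromRev R n m y i a = 0 := by
  simp only [fromRev, LinearMap.comp_apply, LinearMap.pi_apply, dif_neg h]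
  rfl

theorem fromRev_injective : Function.Injective (fromRev R n m) := by
  rw [injective_iff_map_eq_zero]
  intro y hy
  refine funext fun l => funext fun b => ?_
  by_cases hl : l.1 + 1 < n
  · obtain ⟨i, hi, rfl⟩ : ∃ i : Fin n, i.1 + 1 < n ∧ opp n i = l :=
      ⟨opp n l, by simp only [opp]; omega, by ext; simp only [opp]; omega⟩
    have h1 := congrFun (congrFun hy i) (Fin.cast (revType_opp n m i hi) b)
    rw [fromRev_apply R n m y i hi] at h1
    exact (map_eq_zero_iff _ (mulPow_injective R n _ _ _)).1 h1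
  · exact absurd b.2 (by simp [revType, hl])

theorem range_fromRev : LinearMap.range (fromRev R n m) = LinearMap.ker (cover R n m) := by
  classical
  apply le_antisymm
  · rintro _ ⟨y, rfl⟩
    rw [LinearMap.mem_ker, mem_ker_cover]
    intro i a
    by_cases h : i.1 + 1 < n
    · rw [fromRev_apply R n m y i h]
      obtain ⟨x, hx⟩ := Submodule.Quotient.mk_surjective _
        (QFModel.equivPi R n (revType n m) y (opp n i) (Fin.cast (revType_opp n m i h).symm a))
      rw [← hx, mulPow_mk]
      exact Ideal.mul_mem_right _ _ (Ideal.subset_span rfl)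
    · rw [fromRev_apply_top R n m y i h]
      exact zero_mem _
  · intro x hx
    rw [LinearMap.mem_ker, mem_ker_cover] at hx
    have hx' : x = ∑ i, ∑ a, (Pi.single i (Pi.single a (x i a)) : Free R n m) := by
      funext i a
      rw [Finset.sum_apply, Finset.sum_apply, Finset.sum_eq_single i, Finset.sum_apply, Finset.sum_apply,
        Finset.sum_eq_single a]
      · simp
      · intro b _ hb; simp [hb.symm]
      · simp
      · intro j _ hj
        rw [Finset.sum_apply, Finset.sum_apply]
        exact Finset.sum_eq_zero fun b _ => by simp [hj.symm]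
      · simp
    rw [hx']
    refine sum_mem fun i _ => sum_mem fun a _ => ?_
    obtain ⟨t, ht⟩ := Ideal.mem_span_singleton.1 (hx i a)
    by_cases h : i.1 + 1 < n
    · refine ⟨(QFModel.equivPi R n (revType n m)).symm
        (Pi.single (opp n i) (Pi.single (Fin.cast (revType_opp n m i h).symm a) (Submodule.Quotient.mk t))), ?_⟩
      funext i' a'
      by_cases h' : i'.1 + 1 < n
      · rw [fromRev_apply R n m _ i' h', LinearEquiv.apply_symm_apply]
        by_cases hii : i' = i
        · subst hii
          rw [Pi.single_eq_same, Pi.single_eq_same]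
          by_cases haa : a' = a
          · subst haa
            rw [Pi.single_eq_same, Pi.single_eq_same, mulPow_mk, ← ht]
          · rw [Pi.single_eq_of_ne haa, Pi.single_eq_of_ne (by simpa [Fin.ext_iff] using haa), map_zero]
        · have : opp n i' ≠ opp n i := fun hh => hii (by
            rw [Fin.ext_iff] at hh ⊢
            simp only [opp] at hh
            omega)
          rw [Pi.single_eq_of_ne this, Pi.single_eq_of_ne hii, Pi.zero_apply, Pi.zero_apply, map_zero]
      · rw [fromRev_apply_top R n m _ i' h', Pi.single_eq_of_ne (fun hh => h' (by rwa [hh])), Pi.zero_apply]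
    · rw [ht, z_pow_eq_zero R n (by omega), zero_mul]
      simp

theorem le_of_le_sup_z_pow {M : Type*} [AddCommGroup M] [Module (Rn R n) M] (N : Submodule (Rn R n) M)
    (h : ∀ x, ∃ y ∈ N, ∃ w, x = y + z R n • w) (x : M) : x ∈ N := by
  have key : ∀ k x, ∃ y ∈ N, ∃ w, x = y + z R n ^ k • w := by
    intro k
    induction k with
    | zero => exact fun x => ⟨0, zero_mem _, x, by simp⟩
    | succ k ih =>
      intro x
      obtain ⟨y, hy, w, rfl⟩ := ih x
      obtain ⟨y', hy', w', rfl⟩ := h w
      exact ⟨y + z R n ^ k • y', add_mem hy (N.smul_mem _ hy'), w', by rw [smul_add, smul_smul, ← pow_succ]; abel⟩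
  obtain ⟨y, hy, w, rfl⟩ := key n x
  rwa [z_pow_self_smul, add_zero]

theorem ker_quasiFree {M : Type u} [AddCommGroup M] [Module (Rn R n) M] (hM : IsQuasiFreeOfType R n M m)
    (r : ℕ) (φ : (Fin r → Rn R n) →ₗ[Rn R n] M) (hφ : Function.Surjective φ)
    (hφz : ∀ f, φ f ∈ filt R n M 1 → f ∈ filt R n (Fin r → Rn R n) 1) :
    IsQuasiFreeOfType R n (↥(LinearMap.ker φ)) (revType n m) := by
  obtain ⟨e⟩ := hM
  obtain ⟨θ, hθ⟩ := Module.projective_lifting_property (cover R n m) (e.toLinearMap ∘ₗ φ) (cover_surjective R n m)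
  have hθ' : ∀ f, cover R n m (θ f) = e (φ f) := fun f => LinearMap.congr_fun hθ f
  have hsur : Function.Surjective θ := fun w => by
    refine le_of_le_sup_z_pow R n (LinearMap.range θ) (fun w => ?_) w
    obtain ⟨f, hf⟩ := hφ (e.symm (cover R n m w))
    have h0 : cover R n m (w - θ f) = 0 := by rw [map_sub, hθ', hf, e.apply_symm_apply, sub_self]
    rw [mem_ker_cover] at h0
    choose t ht using fun i a => Ideal.mem_span_singleton.1 (h0 i a)
    refine ⟨θ f, ⟨f, rfl⟩, fun i a => z R n ^ i.1 * t i a, funext fun i => funext fun a => ?_⟩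
    have := ht i a
    simp only [Pi.sub_apply] at this
    simp only [Pi.add_apply, Pi.smul_apply, smul_eq_mul]
    rw [← mul_assoc, ← pow_succ', ← this]
    abel
  obtain ⟨s, hs⟩ := Module.projective_lifting_property θ LinearMap.id hsur
  have hs' : ∀ w, θ (s w) = w := fun w => LinearMap.congr_fun hs w
  have hker : ∀ k f, θ f = 0 → ∃ y, θ y = 0 ∧ f = z R n ^ k • y := by
    intro k
    induction k with
    | zero => exact fun f hf => ⟨f, hf, by simp⟩
    | succ k ih =>
      intro f hf
      obtain ⟨y, hy, rfl⟩ := ih f hf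
      have h1 : φ y = 0 := e.injective (by rw [← hθ', hy, map_zero, map_zero])
      obtain ⟨v, hv⟩ := hφz y (by rw [h1]; exact zero_mem _)
      change z R n ^ 1 • v = y at hv
      rw [pow_one] at hv
      refine ⟨v - s (θ v), by rw [map_sub, hs', sub_self], ?_⟩
      have h2 : z R n • (v - s (θ v)) = y := by
        rw [smul_sub, hv, ← map_smul, ← map_smul, hv, hy, map_zero, sub_zero]
      rw [← h2]
      funext j
      simp only [Pi.smul_apply, smul_eq_mul, pow_succ, mul_assoc]
  have hinj : Function.Injective θ := by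
    rw [injective_iff_map_eq_zero]
    intro f hf
    obtain ⟨y, -, rfl⟩ := hker n f hf
    exact z_pow_self_smul R n y
  refine ⟨((LinearEquiv.ofBijective θ ⟨hinj, hsur⟩).submoduleMap (LinearMap.ker φ)).trans
    ((LinearEquiv.ofEq _ _ ?_).trans (LinearEquiv.ofInjective _ (fromRev_injective R n m)).symm)⟩
  rw [range_fromRev]
  ext w
  simp only [Submodule.mem_map, LinearMap.mem_ker]
  constructor
  · rintro ⟨f, hf, rfl⟩
    exact (hθ' f).trans (by rw [hf, map_zero])
  · intro hw
    obtain ⟨f, rfl⟩ := hsur w
    exact ⟨f, e.injective (by rw [← hθ', hw, map_zero]), rfl⟩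

end Groth.L21.MultCrv
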